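import Mathlib.Algebra.Homology.TotalComplex
import Mathlib.Algebra.Homology.Refinements
import Mathlib.Algebra.Homology.QuasiIso
import Mathlib.Algebra.Homology.Functor
import Mathlib.CategoryTheory.Abelian.Refinements
import Mathlib.Algebra.Homology.HomologicalComplexLimits

/-! A map of first-quadrant double complexes which is a quasi-isomorphism on every row is a
quasi-isomorphism on total complexes. -/

set_option autoImplicit false
universe v u

open CategoryTheory CategoryTheory.Limits HomologicalComplex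

namespace GrothLib.TotalRows19

variable {A : Type u} [Category.{v} A] [Abelian A]

/-- Cycles of the mapping cone are boundaries up to refinements. -/
def ConeExact {M N : CochainComplex A ℤ} (g : M ⟶ N) : Prop :=
  ∀ (n₀ n n₁ n₂ : ℤ), n₀ + 1 = n → n + 1 = n₁ → n₁ + 1 = n₂ →
    ∀ ⦃W : A⦄ (k : W ⟶ M.X n₁) (l : W ⟶ N.X n), k ≫ M.d n₁ n₂ = 0 →
      k ≫ g.f n₁ = l ≫ N.d n n₁ → ∃ (W' : A) (π : W' ⟶ W) (_ : Epi π) (k' : W' ⟶ M.X n) (l' : W' ⟶ N.X n₀),
        π ≫ k = k' ≫ M.d n n₁ ∧ π ≫ l = k' ≫ g.f n + l' ≫ N.d n₀ n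

theorem coneExact_of_quasiIso {M N : CochainComplex A ℤ} (g : M ⟶ N) [QuasiIso g] : ConeExact g := by
  intro n₀ n n₁ n₂ h₀ h₁ h₂ W k l hk hkl
  have hm : Mono (homologyMap g n₁) := inferInstance
  have he : Epi (homologyMap g n) := inferInstance
  rw [mono_homologyMap_iff_up_to_refinements g n n₁ n₂ (by simp; omega) (by simp; omega)] at hm
  rw [epi_homologyMap_iff_up_to_refinements g n₀ n n₁ (by simp; omega) (by simp; omega)] at he
  obtain ⟨W₁, π₁, _, x, hx⟩ := hm k hk l hkl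
  obtain ⟨W₂, π₂, _, c, hc, y, hy⟩ := he (π₁ ≫ l - x ≫ g.f n) (by
    rw [Preadditive.sub_comp, Category.assoc, Category.assoc, g.comm, ← hkl, reassoc_of% hx, sub_self])
  refine ⟨W₂, π₂ ≫ π₁, inferInstance, π₂ ≫ x + c, y, ?_, ?_⟩
  · rw [Preadditive.add_comp, hc, add_zero, Category.assoc, hx, Category.assoc]
  · rw [Preadditive.comp_sub, sub_eq_iff_eq_add] at hy
    simp only [Category.assoc, Preadditive.add_comp]
    rw [hy]
    abel

theorem quasiIso_of_coneExact {M N : CochainComplex A ℤ} (g : M ⟶ N) (h : ConeExact g) : QuasiIso g where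
  quasiIsoAt n := by
    rw [quasiIsoAt_iff_isIso_homologyMap]
    have : Mono (homologyMap g n) := by
      rw [mono_homologyMap_iff_up_to_refinements g (n - 1) n (n + 1) (by simp) (by simp)]
      intro W x hx y hxy
      obtain ⟨W', π, hπ, k', -, hk, -⟩ := h (n - 1 - 1) (n - 1) n (n + 1) (by omega) (by omega) rfl x y hx hxy
      exact ⟨W', π, hπ, k', hk⟩
    have : Epi (homologyMap g n) := by
      rw [epi_homologyMap_iff_up_to_refinements g (n - 1) n (n + 1) (by simp) (by simp)]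
      intro W y hy
      obtain ⟨W', π, hπ, k', l', hk, hl⟩ := h (n - 1) n (n + 1) (n + 2) (by omega) rfl (by omega)
        (0 : W ⟶ _) y zero_comp (zero_comp.trans hy.symm)
      exact ⟨W', π, hπ, k', by simpa using hk.symm, l', hl⟩
    exact isIso_of_mono_of_epi _

variable (K : HomologicalComplex₂ A (ComplexShape.up ℤ) (ComplexShape.up ℤ))
  [K.HasTotal (ComplexShape.up ℤ)]

/-- The projection to a component of the total complex. -/
noncomputable def proj (p q n : ℤ) : (K.total (ComplexShape.up ℤ)).X n ⟶ (K.X p).X q :=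
  K.totalDesc fun p' q' _ =>
    if h : p' = p ∧ q' = q then eqToHom (by obtain ⟨rfl, rfl⟩ := h; rfl) else 0

theorem ι_proj (p q n : ℤ) (h : p + q = n) :
    K.ιTotal (ComplexShape.up ℤ) p q n h ≫ proj K p q n = 𝟙 _ := by
  simp [proj]

theorem ι_proj_ne {p q p' q' n : ℤ} (h : p' + q' = n) (hne : q' ≠ q) :
    K.ιTotal (ComplexShape.up ℤ) p' q' n h ≫ proj K p q n = 0 := by
  simp [proj, hne]

variable (a b : ℤ) (hK : ∀ p q : ℤ, p < a ∨ q < b → IsZero ((K.X p).X q))

/-- The part of the identity of the rows `≥ q₀`. -/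
noncomputable def tail (q₀ n : ℤ) : (K.total (ComplexShape.up ℤ)).X n ⟶ (K.total (ComplexShape.up ℤ)).X n :=
  K.totalDesc fun p q h => if q₀ ≤ q then K.ιTotal (ComplexShape.up ℤ) p q n h else 0

theorem tail_step (q₀ n p : ℤ) (h : p + q₀ = n) :
    tail K q₀ n = proj K p q₀ n ≫ K.ιTotal (ComplexShape.up ℤ) p q₀ n h + tail K (q₀ + 1) n := by
  refine HomologicalComplex₂.total.hom_ext _ fun p' q' h' => ?_
  have h'' : p' + q' = n := h'
  rw [Preadditive.comp_add]
  rcases lt_trichotomy q' q₀ with hlt | rfl | hgt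
  · rw [← Category.assoc, ι_proj_ne K h'' hlt.ne]
    simp [tail, show ¬ q₀ ≤ q' by omega, show ¬ q₀ + 1 ≤ q' by omega]
  · obtain rfl : p' = p := by omega
    rw [← Category.assoc, ι_proj K _ _ n h'']
    simp [tail]
  · rw [← Category.assoc, ι_proj_ne K h'' hgt.ne']
    simp [tail, show q₀ ≤ q' by omega, show q₀ + 1 ≤ q' by omega]

include hK in
theorem tail_bot (q₀ n : ℤ) (h : q₀ ≤ b) : tail K q₀ n = 𝟙 _ := by
  refine HomologicalComplex₂.total.hom_ext _ fun p q hpq => ?_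
  by_cases hq : q₀ ≤ q
  · simp [tail, hq]
  · exact (hK p q (Or.inr (by omega))).eq_of_src _ _

include hK in
theorem tail_top (q₀ n : ℤ) (h : n - a < q₀) : tail K q₀ n = 0 := by
  refine HomologicalComplex₂.total.hom_ext _ fun p q hpq => ?_
  have : p + q = n := hpq
  by_cases hq : q₀ ≤ q
  · exact (hK p q (Or.inl (by omega))).eq_of_src _ _
  · simp [tail, hq]

theorem tail_proj (q₀ q p n : ℤ) (h : q < q₀) : tail K q₀ n ≫ proj K p q n = 0 := by
  refine HomologicalComplex₂.total.hom_ext _ fun p' q' h' => ?_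
  by_cases hq : q₀ ≤ q'
  · simp [tail, hq, ι_proj_ne K h' (show q' ≠ q by omega)]
  · simp [tail, hq]

theorem tail_tail (q₀ q₁ n : ℤ) (h : q₀ ≤ q₁) : tail K q₁ n ≫ tail K q₀ n = tail K q₁ n := by
  refine HomologicalComplex₂.total.hom_ext _ fun p' q' h' => ?_
  by_cases hq : q₁ ≤ q'
  · simp [tail, hq, h.trans hq]
  · simp [tail, hq]

theorem ι_d (p q n n' : ℤ) (h : p + q = n) (h' : n + 1 = n') :
    K.ιTotal (ComplexShape.up ℤ) p q n h ≫ (K.total (ComplexShape.up ℤ)).d n n' =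
      (K.d p (p + 1)).f q ≫ K.ιTotal (ComplexShape.up ℤ) (p + 1) q n' (show p + 1 + q = n' by omega) +
      p.negOnePow • ((K.X p).d q (q + 1) ≫
        K.ιTotal (ComplexShape.up ℤ) p (q + 1) n' (show p + (q + 1) = n' by omega)) := by
  rw [HomologicalComplex₂.total_d, Preadditive.comp_add, HomologicalComplex₂.ι_D₁, HomologicalComplex₂.ι_D₂,
    K.d₁_eq (ComplexShape.up ℤ) (show (ComplexShape.up ℤ).Rel p (p + 1) from rfl) q n' (show p + 1 + q = n' by omega),
    K.d₂_eq (ComplexShape.up ℤ) p (show (ComplexShape.up ℤ).Rel q (q + 1) from rfl) n' (show p + (q + 1) = n' by omega)]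
  congr 1
  exact one_smul _ _

theorem tail_d (q₀ n n' : ℤ) (h : n + 1 = n') :
    tail K q₀ n ≫ (K.total (ComplexShape.up ℤ)).d n n' ≫ tail K q₀ n' = tail K q₀ n ≫ (K.total (ComplexShape.up ℤ)).d n n' := by
  refine HomologicalComplex₂.total.hom_ext _ fun p q hpq => ?_
  by_cases hq : q₀ ≤ q
  · simp only [tail, HomologicalComplex₂.ι_totalDesc_assoc, if_pos hq]
    rw [← Category.assoc, ι_d K p q n n' hpq h]
    simp [tail, hq, show q₀ ≤ q + 1 by omega]
  · simp [tail, hq]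

theorem tail_d_proj (q₀ n n' p : ℤ) (hp : p + q₀ = n) (h : n + 1 = n') :
    tail K q₀ n ≫ (K.total (ComplexShape.up ℤ)).d n n' ≫ proj K (p + 1) q₀ n' =
      proj K p q₀ n ≫ (K.d p (p + 1)).f q₀ := by
  refine HomologicalComplex₂.total.hom_ext _ fun p' q hpq => ?_
  have hpq' : p' + q = n := hpq
  rcases lt_trichotomy q q₀ with hlt | rfl | hgt
  · rw [← Category.assoc _ (proj K p q₀ n), ι_proj_ne K hpq' hlt.ne]
    simp [tail, show ¬ q₀ ≤ q by omega]
  · obtain rfl : p' = p := by omega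
    rw [← Category.assoc _ (proj K p' q n), ι_proj K _ _ n hpq']
    simp only [tail, HomologicalComplex₂.ι_totalDesc_assoc, if_pos le_rfl]
    rw [← Category.assoc, ι_d K p' q n n' hpq' h, Preadditive.add_comp, Category.assoc, ι_proj K,
      Linear.units_smul_comp, Category.assoc, ι_proj_ne K (q := q) _ (show q + 1 ≠ q by omega)]
    simp
  · rw [← Category.assoc _ (proj K p q₀ n), ι_proj_ne K hpq' hgt.ne']
    simp only [tail, HomologicalComplex₂.ι_totalDesc_assoc, if_pos hgt.le]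
    rw [← Category.assoc, ι_d K p' q n n' hpq h, Preadditive.add_comp, Category.assoc, ι_proj_ne K _ hgt.ne',
      Linear.units_smul_comp, Category.assoc, ι_proj_ne K _ (show q + 1 ≠ q₀ by omega)]
    simp

variable {K} {L : HomologicalComplex₂ A (ComplexShape.up ℤ) (ComplexShape.up ℤ)}
  [L.HasTotal (ComplexShape.up ℤ)] (φ : K ⟶ L)

theorem map_proj (p q n : ℤ) :
    (HomologicalComplex₂.total.map φ (ComplexShape.up ℤ)).f n ≫ proj L p q n = proj K p q n ≫ (φ.f p).f q := by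
  refine HomologicalComplex₂.total.hom_ext _ fun p' q' h => ?_
  have h' : p' + q' = n := h
  rw [HomologicalComplex₂.ιTotal_map_assoc]
  by_cases hq : q' = q
  · subst hq
    by_cases hp : p' = p
    · subst hp
      rw [ι_proj L _ _ n h', ← Category.assoc _ (proj K _ _ _), ι_proj K _ _ n h', Category.comp_id, Category.id_comp]
    · simp [proj, hp]
  · rw [ι_proj_ne L h' hq, comp_zero, ← Category.assoc, ι_proj_ne K h' hq, zero_comp]

theorem tail_map (q₀ n : ℤ) :
    tail K q₀ n ≫ (HomologicalComplex₂.total.map φ (ComplexShape.up ℤ)).f n =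
      (HomologicalComplex₂.total.map φ (ComplexShape.up ℤ)).f n ≫ tail L q₀ n := by
  refine HomologicalComplex₂.total.hom_ext _ fun p q h => ?_
  by_cases hq : q₀ ≤ q <;> simp [tail, hq]

theorem coneExact_total (a b : ℤ)
    (hK : ∀ p q : ℤ, p < a ∨ q < b → IsZero ((K.X p).X q))
    (hL : ∀ p q : ℤ, p < a ∨ q < b → IsZero ((L.X p).X q))
    (hrow : ∀ q, ConeExact (((HomologicalComplex.eval A (ComplexShape.up ℤ) q).mapHomologicalComplex
      (ComplexShape.up ℤ)).map φ)) :
    ConeExact (HomologicalComplex₂.total.map φ (ComplexShape.up ℤ)) := by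
  intro n₀ n n₁ n₂ h₀ h₁ h₂
  suffices H : ∀ (m : ℕ) (q₀ : ℤ), n₁ - a + 1 ≤ q₀ + m →
      ∀ ⦃W : A⦄ (k : W ⟶ (K.total (ComplexShape.up ℤ)).X n₁) (l : W ⟶ (L.total (ComplexShape.up ℤ)).X n),
      k ≫ tail K q₀ n₁ = k → l ≫ tail L q₀ n = l →
      k ≫ (K.total (ComplexShape.up ℤ)).d n₁ n₂ = 0 →
      k ≫ (HomologicalComplex₂.total.map φ (ComplexShape.up ℤ)).f n₁ = l ≫ (L.total (ComplexShape.up ℤ)).d n n₁ →
      ∃ (W' : A) (π : W' ⟶ W) (_ : Epi π) (k' : W' ⟶ (K.total (ComplexShape.up ℤ)).X n)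
        (l' : W' ⟶ (L.total (ComplexShape.up ℤ)).X n₀),
        π ≫ k = k' ≫ (K.total (ComplexShape.up ℤ)).d n n₁ ∧
        π ≫ l = k' ≫ (HomologicalComplex₂.total.map φ (ComplexShape.up ℤ)).f n + l' ≫ (L.total (ComplexShape.up ℤ)).d n₀ n by
    intro W k l
    exact H (n₁ - a + 1 - b).toNat b (by omega) k l (by rw [tail_bot K a b hK b n₁ le_rfl, Category.comp_id])
      (by rw [tail_bot L a b hL b n le_rfl, Category.comp_id])
  intro m
  induction m with
  | zero =>
    intro q₀ hq W k l hk hl _ _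
    refine ⟨W, 𝟙 W, inferInstance, 0, 0, ?_, ?_⟩
    · rw [zero_comp, ← hk, tail_top K a b hK q₀ n₁ (by omega), comp_zero, comp_zero]
    · rw [zero_comp, zero_comp, add_zero, ← hl, tail_top L a b hL q₀ n (by omega), comp_zero, comp_zero]
  | succ m ih =>
    intro q₀ hq W k l hk hl hkd hkl
    obtain ⟨p, hp⟩ : ∃ p, p + q₀ = n := ⟨n - q₀, by omega⟩
    obtain ⟨p', hp'⟩ : ∃ p', p' + 1 = p := ⟨p - 1, by omega⟩
    have e1 : k ≫ proj K (p + 1) q₀ n₁ ≫ (K.d (p + 1) (p + 1 + 1)).f q₀ = 0 := by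
      rw [← tail_d_proj K q₀ n₁ n₂ (p + 1) (by omega) h₂, reassoc_of% hk, reassoc_of% hkd, zero_comp]
    have e2 : (k ≫ proj K (p + 1) q₀ n₁) ≫ (φ.f (p + 1)).f q₀ = (l ≫ proj L p q₀ n) ≫ (L.d p (p + 1)).f q₀ := by
      rw [Category.assoc, Category.assoc, ← tail_d_proj L q₀ n n₁ p hp h₁, reassoc_of% hl, ← reassoc_of% hkl, map_proj φ]
    obtain ⟨W₁, π₁, hπ₁, x, y, hx, hy⟩ := hrow q₀ p' p (p + 1) (p + 1 + 1) hp' rfl rfl
      (k ≫ proj K (p + 1) q₀ n₁) (l ≫ proj L p q₀ n) ((Category.assoc _ _ _).trans e1) e2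
    let X : W₁ ⟶ (K.total (ComplexShape.up ℤ)).X n := x ≫ K.ιTotal (ComplexShape.up ℤ) p q₀ n hp
    let Y : W₁ ⟶ (L.total (ComplexShape.up ℤ)).X n₀ :=
      y ≫ L.ιTotal (ComplexShape.up ℤ) p' q₀ n₀ (show p' + q₀ = n₀ by omega)
    let k₂ := π₁ ≫ k - X ≫ (K.total (ComplexShape.up ℤ)).d n n₁
    let l₂ := π₁ ≫ l - X ≫ (HomologicalComplex₂.total.map φ (ComplexShape.up ℤ)).f n -
      Y ≫ (L.total (ComplexShape.up ℤ)).d n₀ n
    have X1 : X ≫ tail K q₀ n = X :=
      (Category.assoc _ _ _).trans (congrArg (x ≫ ·) ((K.ι_totalDesc _ p q₀ hp).trans (if_pos le_rfl)))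
    have Y1 : Y ≫ tail L q₀ n₀ = Y :=
      (Category.assoc _ _ _).trans (congrArg (y ≫ ·) ((L.ι_totalDesc _ p' q₀ (show p' + q₀ = n₀ by omega)).trans (if_pos le_rfl)))
    have hk₂ : k₂ ≫ tail K (q₀ + 1) n₁ = k₂ := by
      have ht : k₂ ≫ tail K q₀ n₁ = k₂ := by
        rw [Preadditive.sub_comp, Category.assoc, hk]
        congr 1
        rw [← X1]
        simp only [Category.assoc, tail_d K q₀ n n₁ h₁]
      have hz : k₂ ≫ proj K (p + 1) q₀ n₁ = 0 := by
        rw [Preadditive.sub_comp, Category.assoc, sub_eq_zero]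
        refine hx.trans ?_
        rw [← X1]
        simp only [Category.assoc, tail_d_proj K q₀ n n₁ p hp h₁]
        rw [← Category.assoc X]
        exact congrArg (· ≫ (K.d p (p + 1)).f q₀)
          ((Category.assoc x _ _).trans ((congrArg (x ≫ ·) (ι_proj K p q₀ n hp)).trans (Category.comp_id x))).symm
      conv_rhs => rw [← ht, tail_step K q₀ n₁ (p + 1) (by omega), Preadditive.comp_add, ← Category.assoc, hz,
        zero_comp, zero_add]
    have hl₂ : l₂ ≫ tail L (q₀ + 1) n = l₂ := by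
      have ht : l₂ ≫ tail L q₀ n = l₂ := by
        simp only [l₂, Preadditive.sub_comp, Category.assoc, hl]
        rw [← tail_map φ, ← reassoc_of% Y1]
        simp only [← Category.assoc X, X1, Category.assoc, tail_d L q₀ n₀ n h₀]
        rw [reassoc_of% Y1]
      have hz : l₂ ≫ proj L p q₀ n = 0 := by
        subst hp'
        rw [Preadditive.sub_comp, Preadditive.sub_comp, Category.assoc, sub_sub, sub_eq_zero]
        refine hy.trans ?_
        rw [← Y1]
        simp only [Category.assoc, map_proj φ, tail_d_proj L q₀ n₀ n p' (by omega) h₀]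
        rw [← Category.assoc X, ← Category.assoc Y]
        exact congrArg₂ (fun s t => s ≫ (φ.f (p' + 1)).f q₀ + t ≫ (L.d p' (p' + 1)).f q₀)
          ((Category.assoc x _ _).trans ((congrArg (x ≫ ·) (ι_proj K _ q₀ n hp)).trans (Category.comp_id x))).symm
          ((Category.assoc y _ _).trans ((congrArg (y ≫ ·) (ι_proj L _ q₀ n₀ (by omega))).trans (Category.comp_id y))).symm
      conv_rhs => rw [← ht, tail_step L q₀ n p hp, Preadditive.comp_add, ← Category.assoc, hz,
        zero_comp, zero_add]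
    obtain ⟨W₂, π₂, hπ₂, k', l', hk', hl'⟩ := ih (q₀ + 1) (by omega) k₂ l₂ hk₂ hl₂
      (by simp [k₂, hkd])
      (by simp [k₂, l₂, hkl, Preadditive.sub_comp])
    refine ⟨W₂, π₂ ≫ π₁, inferInstance, π₂ ≫ X + k', π₂ ≫ Y + l', ?_, ?_⟩
    · simp only [Category.assoc, Preadditive.add_comp, ← hk', k₂, Preadditive.comp_sub]
      abel
    · simp only [l₂, Preadditive.comp_sub] at hl'
      rw [sub_eq_iff_eq_add, sub_eq_iff_eq_add] at hl'
      simp only [Category.assoc, Preadditive.add_comp, hl']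
      abel

theorem quasiIso_total_map (a b : ℤ)
    (hK : ∀ p q : ℤ, p < a ∨ q < b → IsZero ((K.X p).X q))
    (hL : ∀ p q : ℤ, p < a ∨ q < b → IsZero ((L.X p).X q)) [∀ i, HomologicalComplex.HasHomology K i]
    [∀ i, HomologicalComplex.HasHomology L i] [QuasiIso φ] :
    QuasiIso (HomologicalComplex₂.total.map φ (ComplexShape.up ℤ)) := by
  refine quasiIso_of_coneExact _ (coneExact_total φ a b hK hL fun q => ?_)
  exact coneExact_of_quasiIso _

end GrothLib.TotalRows19
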